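import Mathlib
import Groth.Agent.RichLib.FreeResolution

/-! Tor of quotients by regular sequences. -/

universe u

open CategoryTheory CategoryTheory.Limits MonoidalCategory

namespace TorRegLib

variable {A : Type u} [CommRing A] {N : ModuleCat.{u} A} (P : ProjectiveResolution N)

/-- `M ⊗ P` -/
noncomputable def G (M : ModuleCat.{u} A) : ChainComplex (ModuleCat.{u} A) ℕ :=
  ((((tensoringLeft (ModuleCat.{u} A)).obj M)).mapHomologicalComplex (ComplexShape.down ℕ)).obj P.complex

/-- functoriality of `M ⊗ P` -/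
noncomputable def Gmap {M M' : ModuleCat.{u} A} (f : M ⟶ M') : G P M ⟶ G P M' :=
  (NatTrans.mapHomologicalComplex ((tensoringLeft (ModuleCat.{u} A)).map f) (ComplexShape.down ℕ)).app P.complex

theorem isZero_congr {M M' : ModuleCat.{u} A} (h : M = M') (i : ℕ) :
    IsZero ((G P M).homology i) ↔ IsZero ((G P M').homology i) := by subst h; rfl

theorem Gmap_smul_id (M : ModuleCat.{u} A) (x : A) (j : ℕ) :
    (Gmap P (x • 𝟙 M)).f j = x • 𝟙 ((G P M).X j) := by
  refine ModuleCat.hom_ext (TensorProduct.ext' fun m p => ?_)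
  show (x • m) ⊗ₜ[A] p = x • (m ⊗ₜ[A] p)
  exact (TensorProduct.smul_tmul' x m p).symm

theorem homologyMap_Gmap_smul (M : ModuleCat.{u} A) (x : A) (i : ℕ) :
    HomologicalComplex.homologyMap (Gmap P (x • 𝟙 M)) i = x • 𝟙 ((G P M).homology i) := by
  have h : (HomologicalComplex.shortComplexFunctor (ModuleCat.{u} A) (ComplexShape.down ℕ) i).map (Gmap P (x • 𝟙 M)) =
      x • 𝟙 ((G P M).sc i) := by
    ext1
    · exact Gmap_smul_id P M x _
    · exact Gmap_smul_id P M x _
    · exact Gmap_smul_id P M x _
  show ShortComplex.homologyMap _ = _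
  rw [h, ShortComplex.homologyMap_smul, ShortComplex.homologyMap_id]
  rfl

variable (S : ShortComplex (ModuleCat.{u} A))

/-- `S ⊗ P` -/
noncomputable def cx : ShortComplex (ChainComplex (ModuleCat.{u} A) ℕ) :=
  ShortComplex.mk (Gmap P S.f) (Gmap P S.g) (by
    ext j : 1
    show ((tensoringLeft (ModuleCat.{u} A)).map S.f).app _ ≫ ((tensoringLeft (ModuleCat.{u} A)).map S.g).app _ = 0
    rw [← NatTrans.comp_app, ← Functor.map_comp, S.zero, Functor.map_zero]
    rfl)

theorem cx_shortExact (hS : S.ShortExact) : (cx P S).ShortExact := by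
  refine HomologicalComplex.shortExact_of_degreewise_shortExact _ fun j => ?_
  have hP : Module.Projective A (P.complex.X j) := (IsProjective.iff_projective _).2 (P.projective j)
  have hex := (ShortComplex.ShortExact.moduleCat_exact_iff_function_exact S).1 hS.exact
  have hi : Function.Injective S.f.hom := (ModuleCat.mono_iff_injective _).1 hS.mono_f
  have hsj : Function.Surjective S.g.hom := (ModuleCat.epi_iff_surjective _).1 hS.epi_g
  exact
    { exact := (ShortComplex.ShortExact.moduleCat_exact_iff_function_exact _).2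
        (rTensor_exact (P.complex.X j) hex hsj)
      mono_f := (ModuleCat.mono_iff_injective _).2
        (Module.Flat.rTensor_preserves_injective_linearMap (M := P.complex.X j) S.f.hom hi)
      epi_g := (ModuleCat.epi_iff_surjective _).2 (LinearMap.rTensor_surjective (P.complex.X j) hsj) }

/-- `H₀` -/
noncomputable def h0Equiv (M : ModuleCat.{u} A) : (G P M).homology 0 ≃ₗ[A] TensorProduct A M N :=
  haveI : PreservesFiniteColimits ((tensoringLeft (ModuleCat.{u} A)).obj M) := ⟨fun J _ _ =>
    ((inferInstance : PreservesColimitsOfSize.{0, 0} ((tensoringLeft (ModuleCat.{u} A)).obj M))).preservesColimitsOfShape⟩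
  ((P.isoLeftDerivedObj ((tensoringLeft (ModuleCat.{u} A)).obj M) 0).symm ≪≫
    ((tensoringLeft (ModuleCat.{u} A)).obj M).leftDerivedZeroIsoSelf.app N).toLinearEquiv

variable {P}

theorem injective_smul {M : ModuleCat.{u} A} (x : A)
    (h : Mono (HomologicalComplex.homologyMap (Gmap P (x • 𝟙 M)) 0)) :
    IsSMulRegular (TensorProduct A M N) x := by
  rw [homologyMap_Gmap_smul, ModuleCat.mono_iff_injective] at h
  intro a b hab
  apply (h0Equiv P M).symm.injective
  exact h (by
    show x • (h0Equiv P M).symm a = x • (h0Equiv P M).symm b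
    rw [← map_smul, ← map_smul]; exact congrArg _ hab)

theorem mono_homologyMap {M : ModuleCat.{u} A} (x : A) (h : IsSMulRegular (TensorProduct A M N) x) :
    Mono (HomologicalComplex.homologyMap (Gmap P (x • 𝟙 M)) 0) := by
  rw [homologyMap_Gmap_smul, ModuleCat.mono_iff_injective]
  intro a b hab
  apply (h0Equiv P M).injective
  apply h
  show x • h0Equiv P M a = x • h0Equiv P M b
  rw [← map_smul, ← map_smul]
  exact congrArg _ hab

variable {M M' : ModuleCat.{u} A} {x : A} {g : M ⟶ M'} {w : (x • 𝟙 M) ≫ g = 0}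
  (hS : (ShortComplex.mk (x • 𝟙 M) g w).ShortExact)

include hS

theorem vanish_up (hM : ∀ i, 1 ≤ i → IsZero ((G P M).homology i)) (hreg : IsSMulRegular (TensorProduct A M N) x)
    (i : ℕ) (hi : 1 ≤ i) : IsZero ((G P M').homology i) := by
  obtain ⟨j, rfl⟩ : ∃ j, i = j + 1 := ⟨i - 1, by omega⟩
  have hC := cx_shortExact P _ hS
  have he3 := hC.homology_exact₃ (j + 1) j (by simp)
  refine he3.isZero_X₂ ((hM (j + 1) (by omega)).eq_of_src _ _) ?_
  cases j with
  | zero =>
    have hm : Mono (HomologicalComplex.homologyMap (Gmap P (x • 𝟙 M)) 0) := mono_homologyMap x hreg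
    haveI := hm
    exact (cancel_mono (HomologicalComplex.homologyMap (Gmap P (x • 𝟙 M)) 0)).1
      ((hC.δ_comp 1 0 (by simp)).trans zero_comp.symm)
  | succ j => exact (hM (j + 1) (by omega)).eq_of_tgt _ _

theorem regular_down (hM : IsZero ((G P M').homology 1)) : IsSMulRegular (TensorProduct A M N) x := by
  have hC := cx_shortExact P _ hS
  exact injective_smul x ((hC.homology_exact₁ 1 0 (by simp)).mono_g (hM.eq_of_src _ _))

theorem vanish_down [IsNoetherianRing A] (hfin : ∀ j, Module.Finite A (P.complex.X j)) [Module.Finite A M]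
    (hx : x ∈ Ideal.jacobson (⊥ : Ideal A)) (hM : ∀ i, 1 ≤ i → IsZero ((G P M').homology i))
    (i : ℕ) (hi : 1 ≤ i) : IsZero ((G P M).homology i) := by
  have hC := cx_shortExact P _ hS
  have he := hC.homology_exact₂ i
  have hep : Epi (HomologicalComplex.homologyMap (Gmap P (x • 𝟙 M)) i) := he.epi_f ((hM i hi).eq_of_tgt _ _)
  rw [homologyMap_Gmap_smul, ModuleCat.epi_iff_surjective] at hep
  have : Module.Finite A ((G P M).homology i) := by
    have := hfin i
    have hX : Module.Finite A ((G P M).X i) :=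
      (inferInstance : Module.Finite A (TensorProduct A M (P.complex.X i)))
    have hc : Module.Finite A ((G P M).cycles i) :=
      Module.Finite.of_injective ((G P M).iCycles i).hom ((ModuleCat.mono_iff_injective _).1 inferInstance)
    exact Module.Finite.of_surjective ((G P M).homologyπ i).hom ((ModuleCat.epi_iff_surjective _).1 inferInstance)
  rw [ModuleCat.isZero_of_iff_subsingleton (M := (G P M).homology i)]
  have htop : (⊤ : Submodule A ((G P M).homology i)) ≤ Ideal.span {x} • ⊤ := fun a _ => by
    obtain ⟨b, rfl⟩ := hep a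
    exact Submodule.smul_mem_smul (Ideal.mem_span_singleton_self x) trivial
  have := Submodule.eq_bot_of_le_smul_of_le_jacobson_bot _ ⊤ Module.Finite.fg_top htop
    ((Ideal.span_singleton_le_iff_mem _).2 hx)
  exact Submodule.subsingleton_iff A |>.1 (subsingleton_of_bot_eq_top this.symm)

omit hS

/-- the quotient sequence -/
theorem quot_shortExact (I : Ideal A) (x : A) (hreg : IsSMulRegular (A ⧸ I) x) :
    ∃ (g : ModuleCat.of A (A ⧸ I) ⟶ ModuleCat.of A (A ⧸ I ⊔ Ideal.span {x}))
      (w : (x • 𝟙 (ModuleCat.of A (A ⧸ I))) ≫ g = 0), (ShortComplex.mk _ g w).ShortExact := by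
  refine ⟨ModuleCat.ofHom (Submodule.factor le_sup_left), ?_, ?_⟩
  · refine ModuleCat.hom_ext (LinearMap.ext fun a => ?_)
    obtain ⟨r, rfl⟩ := Submodule.mkQ_surjective _ a
    show Submodule.factor le_sup_left (x • Submodule.Quotient.mk r) = (0 : A ⧸ I ⊔ Ideal.span {x})
    rw [← Submodule.Quotient.mk_smul]
    exact (Submodule.Quotient.mk_eq_zero _).2 (Ideal.mem_sup_right (Ideal.mem_span_singleton.2 ⟨r, rfl⟩))
  · refine ShortComplex.ShortExact.mk' ?_ ?_ ?_
    · rw [ShortComplex.moduleCat_exact_iff]
      intro a ha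
      obtain ⟨r, rfl⟩ := Submodule.mkQ_surjective _ a
      obtain ⟨i, hi, j, hj, e⟩ := Submodule.mem_sup.1 ((Submodule.Quotient.mk_eq_zero _).1 ha)
      obtain ⟨s, rfl⟩ := Ideal.mem_span_singleton.1 hj
      refine ⟨Submodule.Quotient.mk s, ?_⟩
      show x • (Submodule.Quotient.mk s : A ⧸ I) = Submodule.Quotient.mk r
      rw [← Submodule.Quotient.mk_smul, Submodule.Quotient.eq, ← (show i + x * s = r from e), smul_eq_mul, sub_add_cancel_right]
      exact neg_mem hi
    · rw [ModuleCat.mono_iff_injective]
      exact hreg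
    · rw [ModuleCat.epi_iff_surjective]
      exact Submodule.factor_surjective (le_sup_left : I ≤ I ⊔ Ideal.span {x})

open RingTheory.Sequence in
/-- The criterion. -/
theorem main [IsNoetherianRing A] (rs : List A) (hrs : IsWeaklyRegular A rs)
    (hjac : ∀ r ∈ rs, r ∈ Ideal.jacobson (⊥ : Ideal A)) (N : ModuleCat.{u} A) [Module.Finite A N] :
    IsWeaklyRegular N rs ↔ ∀ i : ℕ, 1 ≤ i → IsZero (((Tor (ModuleCat.{u} A) i).obj
      (ModuleCat.of A (A ⧸ Ideal.ofList rs))).obj N) := by
  obtain ⟨P, hP⟩ := RichLib.FreeRes.exists_resolution (fun M a b => @Module.Finite A M _ a.toAddCommMonoid b)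
    (fun M [AddCommGroup M] [Module A M] (hM : Module.Finite A M) => by
      obtain ⟨n, φ, hφ⟩ := Module.Finite.exists_fin' A M
      exact ⟨n, φ, hφ, Module.Finite.iff_fg.2 (IsNoetherian.noetherian _)⟩) N (inferInstance : Module.Finite A N)
  let M : ℕ → ModuleCat.{u} A := fun k => ModuleCat.of A (A ⧸ Ideal.ofList (rs.take k))
  have hI : ∀ k (h : k < rs.length),
      Ideal.ofList (rs.take k) ⊔ Ideal.span {rs[k]} = Ideal.ofList (rs.take (k + 1)) := fun k h => by
    rw [List.take_add_one, List.getElem?_eq_getElem h, Ideal.ofList_append]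
    simp [Ideal.ofList_singleton]
  have hreg : ∀ k (h : k < rs.length), IsSMulRegular (A ⧸ Ideal.ofList (rs.take k)) rs[k] := fun k h => by
    have := hrs.regular_mod_prev k h
    rwa [(Submodule.quotEquivOfEq _ _ (by rw [smul_eq_mul, Ideal.mul_top])).isSMulRegular_congr] at this
  have hiff : ∀ k (h : k < rs.length), IsSMulRegular (TensorProduct A (M k) N) rs[k] ↔
      IsSMulRegular (N ⧸ (Ideal.ofList (rs.take k) • ⊤ : Submodule A N)) rs[k] := fun k h =>
    (TensorProduct.quotTensorEquivQuotSMul N (Ideal.ofList (rs.take k))).isSMulRegular_congr _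
  have htor : ∀ i, IsZero (((Tor (ModuleCat.{u} A) i).obj (ModuleCat.of A (A ⧸ Ideal.ofList rs))).obj N) ↔
      IsZero ((G P (M rs.length)).homology i) := fun i => by
    show _ ↔ IsZero ((G P (ModuleCat.of A (A ⧸ Ideal.ofList (rs.take rs.length)))).homology i)
    rw [List.take_length]
    exact (P.isoLeftDerivedObj _ i).isZero_iff
  constructor
  · intro hN
    suffices H : ∀ k ≤ rs.length, ∀ i, 1 ≤ i → IsZero ((G P (M k)).homology i) from
      fun i hi => (htor i).2 (H _ le_rfl i hi)
    intro k
    induction k with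
    | zero =>
      intro _ i hi
      obtain ⟨j, rfl⟩ : ∃ j, i = j + 1 := ⟨i - 1, by omega⟩
      have : Module.Flat A (M 0) := by
        show Module.Flat A (A ⧸ Ideal.ofList (rs.take 0))
        rw [List.take_zero, Ideal.ofList_nil]
        exact Module.Flat.of_linearEquiv (Submodule.quotEquivOfEqBot _ rfl)
      have h0 := (P.complex.exactAt_iff' (j + 2) (j + 1) j (by simp [ChainComplex.prev]) (by simp)).1
        (P.complex_exactAt_succ j)
      rw [ShortComplex.ShortExact.moduleCat_exact_iff_function_exact] at h0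
      refine ((G P (M 0)).exactAt_iff_isZero_homology _).1 ?_
      rw [(G P (M 0)).exactAt_iff' (j + 2) (j + 1) j (by simp [ChainComplex.prev]) (by simp),
        ShortComplex.ShortExact.moduleCat_exact_iff_function_exact]
      exact Module.Flat.lTensor_exact (M 0 : Type u) h0
    | succ k ih =>
      intro hk
      obtain ⟨g, w, hS⟩ := quot_shortExact (Ideal.ofList (rs.take k)) rs[k] (hreg k hk)
      have := vanish_up (P := P) hS (ih (by omega)) ((hiff k hk).2 (hN.regular_mod_prev k hk))
      exact fun i hi => (isZero_congr P (congrArg (fun I : Ideal A => ModuleCat.of A (A ⧸ I)) (hI k hk)) i).1 (this i hi)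
  · intro hT
    have H : ∀ d k, k + d = rs.length → ∀ i, 1 ≤ i → IsZero ((G P (M k)).homology i) := by
      intro d
      induction d with
      | zero => intro k hk i hi; rw [Nat.add_zero] at hk; rw [hk]; exact (htor i).1 (hT i hi)
      | succ d ih =>
        intro k hk
        have hk' : k < rs.length := by omega
        obtain ⟨g, w, hS⟩ := quot_shortExact (Ideal.ofList (rs.take k)) rs[k] (hreg k hk')
        have h1 := ih (k + 1) (by omega)
        exact vanish_down (P := P) hS (fun j => (hP j).1) (hjac _ (List.getElem_mem hk'))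
          fun i hi => (isZero_congr P (congrArg (fun I : Ideal A => ModuleCat.of A (A ⧸ I)) (hI k hk')) i).2 (h1 i hi)
    refine (isWeaklyRegular_iff N rs).2 fun k hk => (hiff k hk).1 ?_
    obtain ⟨g, w, hS⟩ := quot_shortExact (Ideal.ofList (rs.take k)) rs[k] (hreg k hk)
    have h1 := H (rs.length - (k + 1)) (k + 1) (by omega) 1 le_rfl
    exact regular_down (P := P) hS
      ((isZero_congr P (congrArg (fun I : Ideal A => ModuleCat.of A (A ⧸ I)) (hI k hk)) 1).2 h1)

end TorRegLib
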